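import Cfsg.Agent.H802.TE.Defs

/-!
# S5261, part E: (A2) `Z3 ≤ E < Q2`, `p = 2` (task 5419)
-/

set_option autoImplicit false
set_option linter.unusedSectionVars false

namespace Cfsg.Agent.H744.TE

open Cfsg Cfsg.FusionSystem Cfsg.Agent.H756.PU Cfsg.Agent.H802.TE
open Cfsg.Agent.H765.D3 Cfsg.Agent.H765.D3.Sy
open Cfsg.Agent.Hex.Defs (sh cr nm tr)
open Module (finrank)
open scoped commutatorElement

universe u

/-! ### Symmetric forms with values in `ZMod 2` -/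

section perp

variable {V : Type*} [AddCommGroup V] [Module (ZMod 2) V]

/-- a biadditive map is bilinear -/
def mkB (f : V → V → ZMod 2) (h1 : ∀ x y z, f (x + y) z = f x z + f y z)
    (h2 : ∀ x y z, f x (y + z) = f x y + f x z) : LinearMap.BilinForm (ZMod 2) V :=
  LinearMap.mk₂ (ZMod 2) f h1
    (fun c x z => ZMod.map_smul (AddMonoidHom.mk' (fun x => f x z) (fun x y => h1 x y z)) c x) h2
    (fun c x z => ZMod.map_smul (AddMonoidHom.mk' (fun z => f x z) (fun y z => h2 x y z)) c z)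

theorem finrank_perp [Finite V] (f : V → V → ZMod 2) (h1 : ∀ x y z, f (x + y) z = f x z + f y z)
    (hs : ∀ x y, f x y = f y x) (D R : Submodule (ZMod 2) V) (hR : ∀ x, x ∈ R ↔ x ∈ D ∧ ∀ y, f x y = 0) :
    ∃ D' : Submodule (ZMod 2) V, (∀ y, y ∈ D' ↔ ∀ x ∈ D, f x y = 0) ∧
      finrank (ZMod 2) D + finrank (ZMod 2) D' = finrank (ZMod 2) V + finrank (ZMod 2) R := by
  have h2 : ∀ x y z, f x (y + z) = f x y + f x z := fun x y z => by rw [hs, h1, hs y, hs z]
  let B := mkB f h1 h2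
  have hB : ∀ x y, B x y = f x y := fun x y => rfl
  have e2 : R = D ⊓ B.orthogonal ⊤ := by
    ext x
    rw [hR, Submodule.mem_inf, LinearMap.BilinForm.mem_orthogonal_iff]
    refine and_congr_right fun _ => ⟨fun h n _ => ?_, fun h y => ?_⟩
    · change f n x = 0
      rw [hs, h]
    · have : f y x = 0 := h y trivial
      rw [hs, this]
  have hrefl : B.IsRefl := fun x y h => by
    have h' : f x y = 0 := h
    change f y x = 0
    rw [hs, h']
  refine ⟨B.orthogonal D, fun y => ?_, ?_⟩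
  · rw [LinearMap.BilinForm.mem_orthogonal_iff]
    exact Iff.rfl
  · rw [e2]
    exact LinearMap.BilinForm.finrank_add_finrank_orthogonal hrefl D

theorem card_eq_pow [Finite V] : Nat.card V = 2 ^ finrank (ZMod 2) V := by
  rw [Module.natCard_eq_pow_finrank (K := ZMod 2), Nat.card_zmod]

end perp

/-! ### Linear algebra on `K / F` -/

section lin

variable {F K : Type u} [Field F] [Field K] [Finite F] [Finite K] [Algebra F K] {φ : K ≃ₐ[F] K} [Cub φ]

theorem finrank_FK (φ : K ≃ₐ[F] K) [Cub φ] : finrank F K = 3 := by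
  have hφ : orderOf φ = 3 := by
    have : Fact (Nat.Prime 3) := ⟨Nat.prime_three⟩
    refine orderOf_eq_prime ?_ ?_
    · ext t
      exact phi3 φ t
    · intro h
      obtain ⟨t, ht⟩ := Cub.ne (φ := φ)
      exact ht (by rw [h]; rfl)
  have h1 := IntermediateField.finrank_fixedField_eq_card (Subgroup.zpowers φ)
  have h2 : IntermediateField.fixedField (Subgroup.zpowers φ) = ⊥ := by
    rw [eq_bot_iff]
    intro t ht
    rw [IntermediateField.mem_fixedField_iff] at ht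
    obtain ⟨s, hs⟩ := exists_coe φ (ht φ (Subgroup.mem_zpowers φ))
    rw [← hs]
    exact IntermediateField.algebraMap_mem _ _
  rw [h2, IntermediateField.finrank_bot', Nat.card_zpowers, hφ] at h1
  exact h1

theorem card_K (φ : K ≃ₐ[F] K) [Cub φ] : Nat.card K = Nat.card F ^ 3 := by
  rw [Module.natCard_eq_pow_finrank (K := F) (V := K), finrank_FK φ]

/-- the functional `x ↦ tr (s x)` -/
noncomputable def trL (φ : K ≃ₐ[F] K) [Cub φ] (s : K) : K →ₗ[F] F where
  toFun x := tr φ (s * x)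
  map_add' x y := by rw [mul_add, tr_add]
  map_smul' c x := by rw [mul_smul_comm, tr_smul]; rfl

theorem card_perp (φ : K ≃ₐ[F] K) [Cub φ] {s : K} (hs : s ≠ 0) : Nat.card {x : K // tr φ (s * x) = 0} = Nat.card F ^ 2 := by
  have h1 : LinearMap.range (trL φ s) = ⊤ := by
    apply LinearMap.range_eq_top.2
    obtain ⟨x0, hx0⟩ : ∃ x, tr φ (s * x) ≠ 0 := by
      by_contra hcon
      push Not at hcon
      exact hs (tr_nondeg φ hcon)
    intro c
    refine ⟨(c / tr φ (s * x0)) • x0, ?_⟩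
    rw [map_smul]
    change _ * tr φ (s * x0) = c
    rw [div_mul_cancel₀ _ hx0]
  have h2 := LinearMap.finrank_range_add_finrank_ker (trL φ s)
  rw [h1, finrank_top, Module.finrank_self, finrank_FK φ] at h2
  have h3 : Nat.card (LinearMap.ker (trL φ s)) = Nat.card F ^ 2 := by
    rw [Module.natCard_eq_pow_finrank (K := F)]
    congr 1
    omega
  rw [← h3]
  rfl

/-- `c` is not a multiple of `a ≠ 0`: the pair of functionals is onto -/
theorem tr_pair_surj {a c : K} (ha : a ≠ 0) (hc : ∀ s : F, c ≠ s • a) (x y : F) :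
    ∃ b : K, tr φ (a * b) = x ∧ tr φ (c * b) = y := by
  have key : ∀ {a c : K}, a ≠ 0 → (∀ s : F, c ≠ s • a) → ∃ b : K, tr φ (a * b) = 0 ∧ tr φ (c * b) ≠ 0 := by
    intro a c ha hc
    by_contra hcon
    push Not at hcon
    obtain ⟨x0, hx0⟩ : ∃ x, tr φ (a * x) ≠ 0 := by
      by_contra hcon
      push Not at hcon
      exact ha (tr_nondeg φ hcon)
    set r := tr φ (c * x0) / tr φ (a * x0) with hr
    refine hc r (sub_eq_zero.1 (tr_nondeg φ (a := c - r • a) fun t => ?_))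
    have h1 := hcon (t - (tr φ (a * t) / tr φ (a * x0)) • x0) (by
      rw [mul_sub, tr_sub, mul_smul_comm, tr_smul, div_mul_cancel₀ _ hx0, sub_self])
    rw [mul_sub, tr_sub, mul_smul_comm, tr_smul] at h1
    rw [sub_mul, tr_sub, smul_mul_assoc, tr_smul, hr]
    have h2 : tr φ (a * t) / tr φ (a * x0) * tr φ (c * x0) = tr φ (c * x0) / tr φ (a * x0) * tr φ (a * t) := by
      field_simp
    rw [← h2]
    exact h1
  have hc0 : c ≠ 0 := fun h => hc 0 (by rw [h, zero_smul])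
  obtain ⟨b1, h1, h2⟩ := key ha hc
  obtain ⟨b2, h3, h4⟩ := key (a := c) (c := a) hc0 (fun s hs => by
    rcases eq_or_ne s 0 with rfl | h0
    · exact ha (by rw [hs, zero_smul])
    · exact hc s⁻¹ (by rw [hs, smul_smul, inv_mul_cancel₀ h0, one_smul]))
  refine ⟨(y / tr φ (c * b1)) • b1 + (x / tr φ (a * b2)) • b2, ?_, ?_⟩
  · rw [mul_add, tr_add, mul_smul_comm, mul_smul_comm, tr_smul, tr_smul, h1, mul_zero, zero_add, div_mul_cancel₀ _ h4]
  · rw [mul_add, tr_add, mul_smul_comm, mul_smul_comm, tr_smul, tr_smul, h3, mul_zero, add_zero, div_mul_cancel₀ _ h2]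

/-! ### The main linear algebra, `p = 2` -/

section two

variable [CharP K 2] [Module (ZMod 2) K] [Module (ZMod 2) F]

variable (F) in
/-- `Fl × Fl` -/
def Rad (l : K) : Submodule (ZMod 2) (K × K) :=
  AddSubgroup.toZModSubmodule 2
    { carrier := {v | (∃ s : F, v.1 = s • l) ∧ ∃ s : F, v.2 = s • l}
      zero_mem' := ⟨⟨0, by simp⟩, ⟨0, by simp⟩⟩
      add_mem' := fun {v w} hv hw => by
        obtain ⟨⟨a, ha⟩, ⟨b, hb⟩⟩ := hv
        obtain ⟨⟨a', ha'⟩, ⟨b', hb'⟩⟩ := hw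
        exact ⟨⟨a + a', by rw [Prod.fst_add, ha, ha', add_smul]⟩, ⟨b + b', by rw [Prod.snd_add, hb, hb', add_smul]⟩⟩
      neg_mem' := fun {v} hv => by
        obtain ⟨⟨a, ha⟩, ⟨b, hb⟩⟩ := hv
        exact ⟨⟨-a, by rw [Prod.fst_neg, ha, neg_smul]⟩, ⟨-b, by rw [Prod.snd_neg, hb, neg_smul]⟩⟩ }

theorem mem_Rad {l : K} {v : K × K} : v ∈ Rad F l ↔ (∃ s : F, v.1 = s • l) ∧ ∃ s : F, v.2 = s • l := Iff.rfl

variable (F) in
/-- `Fl` -/
def Lin (l : K) : Submodule (ZMod 2) K :=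
  AddSubgroup.toZModSubmodule 2
    { carrier := {v | ∃ s : F, v = s • l}
      zero_mem' := ⟨0, by simp⟩
      add_mem' := fun {v w} hv hw => by
        obtain ⟨a, ha⟩ := hv
        obtain ⟨a', ha'⟩ := hw
        exact ⟨a + a', by rw [ha, ha', add_smul]⟩
      neg_mem' := fun {v} hv => by
        obtain ⟨a, ha⟩ := hv
        exact ⟨-a, by rw [ha, neg_smul]⟩ }

theorem mem_Lin {l : K} {v : K} : v ∈ Lin F l ↔ ∃ s : F, v = s • l := Iff.rfl

variable (φ) in
/-- `s^⊥` -/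
def Per (s : K) : Submodule (ZMod 2) K :=
  AddSubgroup.toZModSubmodule 2
    { carrier := {v | tr φ (s * v) = 0}
      zero_mem' := by
        change tr φ (s * 0) = 0
        rw [mul_zero, tr_zero]
      add_mem' := fun {v w} hv hw => by
        change tr φ (s * (v + w)) = 0
        rw [mul_add, tr_add, show tr φ (s * v) = 0 from hv, show tr φ (s * w) = 0 from hw, add_zero]
      neg_mem' := fun {v} hv => by
        change tr φ (s * -v) = 0
        rw [mul_neg, tr_neg, show tr φ (s * v) = 0 from hv, neg_zero] }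

theorem mem_Per {s : K} {v : K} : v ∈ Per φ s ↔ tr φ (s * v) = 0 := Iff.rfl

variable (F) in
theorem card_F : Nat.card F = 2 ^ finrank (ZMod 2) F := card_eq_pow

theorem finrank_K (φ : K ≃ₐ[F] K) [Cub φ] : finrank (ZMod 2) K = 3 * finrank (ZMod 2) F := by
  have h := card_K φ
  rw [card_F F, card_eq_pow (V := K), ← pow_mul] at h
  have := Nat.pow_right_injective (le_refl 2) h
  omega

theorem finrank_Per {s : K} (hs : s ≠ 0) : finrank (ZMod 2) (Per φ s) = 2 * finrank (ZMod 2) F := by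
  have h := card_perp φ hs
  have h1 : Nat.card (Per φ s) = Nat.card F ^ 2 := h
  rw [card_F F, card_eq_pow, ← pow_mul] at h1
  have := Nat.pow_right_injective (le_refl 2) h1
  omega

theorem finrank_Lin {l : K} (hl : l ≠ 0) : finrank (ZMod 2) (Lin F l) = finrank (ZMod 2) F := by
  have h1 : Nat.card (Lin F l) = Nat.card F := by
    symm
    refine Nat.card_congr (Equiv.ofBijective (fun s : F => (⟨s • l, s, rfl⟩ : Lin F l)) ⟨fun s t h => ?_, fun x => ?_⟩)
    · exact smul_left_injective F hl (Subtype.ext_iff.1 h)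
    · obtain ⟨x, s, hs⟩ := x
      exact ⟨s, Subtype.ext hs.symm⟩
  rw [card_F F, card_eq_pow] at h1
  exact Nat.pow_right_injective (le_refl 2) h1

theorem finrank_Rad {l : K} (hl : l ≠ 0) : finrank (ZMod 2) (Rad F l) = 2 * finrank (ZMod 2) F := by
  have h1 : Nat.card (Rad F l) = Nat.card (F × F) := by
    symm
    refine Nat.card_congr (Equiv.ofBijective
      (fun s : F × F => (⟨(s.1 • l, s.2 • l), ⟨s.1, rfl⟩, ⟨s.2, rfl⟩⟩ : Rad F l)) ⟨fun s t h => ?_, fun x => ?_⟩)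
    · have h' := Prod.ext_iff.1 (Subtype.ext_iff.1 h)
      exact Prod.ext (smul_left_injective F hl h'.1) (smul_left_injective F hl h'.2)
    · obtain ⟨x, ⟨s, hs⟩, ⟨t, ht⟩⟩ := x
      exact ⟨(s, t), Subtype.ext (Prod.ext hs.symm ht.symm)⟩
  rw [Nat.card_prod, card_F F, card_eq_pow, ← pow_add] at h1
  have := Nat.pow_right_injective (le_refl 2) h1
  omega

theorem exists_functional : ∃ L : F →+ ZMod 2, L ≠ 0 := by
  have h : (1 : F) ≠ 0 := one_ne_zero
  rw [Ne, ← Module.forall_dual_apply_eq_zero_iff (ZMod 2)] at h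
  push Not at h
  obtain ⟨g, hg⟩ := h
  exact ⟨g.toAddMonoidHom, fun h0 => hg (by
    have := DFunLike.congr_fun h0 (1 : F)
    exact this)⟩

/-- `(x, y) ↦ L (tr (x y))` is nondegenerate -/
theorem nondeg {L : F →+ ZMod 2} (hL : L ≠ 0) {x : K} (h : ∀ y, L (tr φ (x * y)) = 0) : x = 0 := by
  apply tr_nondeg φ
  intro t
  by_contra ht
  apply hL
  ext c
  have := h ((c / tr φ (x * t)) • t)
  rw [mul_smul_comm, tr_smul, div_mul_cancel₀ _ ht] at this
  rw [this]
  rfl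

theorem two_K : (2 : K) = 0 := CharTwo.two_eq_zero

variable (φ) in
/-- `f_l` -/
noncomputable def fl (L : F →+ ZMod 2) (l : K) (v w : K × K) : ZMod 2 := L (tr φ (l * (cr φ v.1 w.2 + cr φ w.1 v.2)))

theorem fl_add (L : F →+ ZMod 2) (l : K) (x y z : K × K) : fl φ L l (x + y) z = fl φ L l x z + fl φ L l y z := by
  unfold fl
  rw [Prod.fst_add, Prod.snd_add, cr_add_left, cr_add_right, ← map_add, ← tr_add, ← mul_add]
  congr 3
  ring

theorem fl_symm (L : F →+ ZMod 2) (l : K) (x y : K × K) : fl φ L l x y = fl φ L l y x := by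
  unfold fl
  rw [add_comm]

theorem fl_eq (L : F →+ ZMod 2) (l : K) (v w : K × K) :
    fl φ L l v w = L (tr φ (cr φ l v.1 * w.2)) + L (tr φ (cr φ l v.2 * w.1)) := by
  unfold fl
  rw [mul_add, tr_add, map_add, tr_cr, tr_cr, cr_comm φ w.1 v.2]

/-- the radical of `f_l` -/
theorem fl_rad {L : F →+ ZMod 2} (hL : L ≠ 0) {l : K} (hl : l ≠ 0) (v : K × K) :
    (∀ w, fl φ L l v w = 0) ↔ v ∈ Rad F l := by
  constructor
  · intro h
    have h1 : cr φ l v.1 = 0 := nondeg hL fun y => by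
      have := h (0, y)
      rw [fl_eq] at this
      simpa [tr_zero] using this
    have h2 : cr φ l v.2 = 0 := nondeg hL fun y => by
      have := h (y, 0)
      rw [fl_eq] at this
      simpa [tr_zero] using this
    exact ⟨cr_eq_zero_two φ two_K hl h1, cr_eq_zero_two φ two_K hl h2⟩
  · rintro ⟨⟨s, hs⟩, ⟨t, ht⟩⟩ w
    rw [fl_eq, hs, ht, cr_smul_self_two φ two_K, cr_smul_self_two φ two_K]
    simp [tr_zero]

/-- the bound from one `l` -/
theorem bound {L : F →+ ZMod 2} (hL : L ≠ 0) {l : K} (hl : l ≠ 0) (D : Submodule (ZMod 2) (K × K))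
    (hD : ∀ v ∈ D, ∀ w ∈ D, fl φ L l v w = 0) :
    finrank (ZMod 2) D ≤ 2 * finrank (ZMod 2) F + finrank (ZMod 2) (D ⊓ Rad F l : Submodule (ZMod 2) (K × K)) := by
  obtain ⟨D', hD', he⟩ := finrank_perp (fl φ L l) (fl_add L l) (fl_symm L l) (D ⊔ Rad F l) (Rad F l) (fun x =>
    ⟨fun h => ⟨(le_sup_right : Rad F l ≤ D ⊔ Rad F l) h, (fl_rad hL hl x).2 h⟩, fun h => (fl_rad hL hl x).1 h.2⟩)
  have h1 : D ⊔ Rad F l ≤ D' := by
    apply sup_le
    · intro w hw
      rw [hD']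
      intro v hv
      obtain ⟨a, ha, b, hb, rfl⟩ := Submodule.mem_sup.1 hv
      rw [fl_add, hD a ha w hw, (fl_rad hL hl b).2 hb w, add_zero]
    · intro w hw
      rw [hD']
      intro v _
      rw [fl_symm, (fl_rad hL hl w).2 hw v]
  have h2 := Submodule.finrank_mono h1
  have h3 := Submodule.finrank_sup_add_finrank_inf_eq D (Rad F l)
  have h4 := finrank_Rad (F := F) hl
  have h5 : finrank (ZMod 2) (K × K) = 6 * finrank (ZMod 2) F := by
    rw [Module.finrank_prod, finrank_K φ]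
    ring
  omega

theorem tr_cr_self_left (a b : K) : tr φ (cr φ a b * a) = 0 := by
  rw [tr_cr, cr_comm φ b a, mul_comm, tr_cr, cr_comm φ b a, ← tr_cr, cr_self, two_K, zero_mul, zero_mul, tr_zero]

/-- **The linear algebra of (A2).** -/
theorem lin_main (DD : Submodule (ZMod 2) (K × K)) (BB : Submodule (ZMod 2) K)
    (hB : ∀ v ∈ DD, ∀ w ∈ DD, cr φ v.1 w.2 + cr φ w.1 v.2 ∈ BB) (hS : ∀ v ∈ DD, cr φ v.1 v.2 ∈ BB)
    (hcard : finrank (ZMod 2) K + finrank (ZMod 2) BB ≤ finrank (ZMod 2) DD) (hne : DD ≠ ⊤)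
    (hind : ∃ v ∈ DD, v.1 ≠ 0 ∧ ∀ s : F, v.2 ≠ s • v.1) :
    ∃ s : K, s ≠ 0 ∧ ∀ v, v ∈ DD ↔ tr φ (s * v.1) = 0 ∧ tr φ (s * v.2) = 0 := by
  obtain ⟨L, hL⟩ := exists_functional (F := F)
  have hk0 : 1 ≤ finrank (ZMod 2) F := Module.finrank_pos
  have hK := finrank_K φ
  have hKK : finrank (ZMod 2) (K × K) = 6 * finrank (ZMod 2) F := by
    rw [Module.finrank_prod, finrank_K φ]
    ring
  set k := finrank (ZMod 2) F with hk
  -- `BB` is not zero and not everything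
  have hb1 : 1 ≤ finrank (ZMod 2) BB := by
    obtain ⟨v, hv, hv1, hv2⟩ := hind
    rw [Nat.one_le_iff_ne_zero]
    intro h0
    rw [Submodule.finrank_eq_zero] at h0
    have h1 := hS v hv
    rw [h0, Submodule.mem_bot] at h1
    obtain ⟨s, hs⟩ := cr_eq_zero_two φ two_K hv1 h1
    exact hv2 s hs
  have hb3 : finrank (ZMod 2) BB < 3 * k := by
    by_contra hcon
    apply hne
    apply Submodule.eq_top_of_finrank_eq
    have := Submodule.finrank_le DD
    omega
  -- `Λ`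
  obtain ⟨Λ, hΛ, hΛf⟩ := finrank_perp (fun x y : K => L (tr φ (x * y)))
    (fun x y z => by rw [add_mul, tr_add, map_add]) (fun x y => by rw [mul_comm]) BB ⊥ (fun x => by
      constructor
      · intro h
        rw [Submodule.mem_bot] at h
        rw [h]
        exact ⟨zero_mem _, fun y => by rw [zero_mul, tr_zero, map_zero]⟩
      · rintro ⟨-, h⟩
        rw [Submodule.mem_bot]
        exact nondeg hL h)
  rw [finrank_bot, hK] at hΛf
  have hiso : ∀ l ∈ Λ, ∀ v ∈ DD, ∀ w ∈ DD, fl φ L l v w = 0 := by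
    intro l hl v hv w hw
    have := (hΛ l).1 hl _ (hB v hv w hw)
    unfold fl
    rw [mul_comm]
    exact this
  have hbd : ∀ l ∈ Λ, l ≠ 0 → finrank (ZMod 2) DD ≤
      2 * k + finrank (ZMod 2) (DD ⊓ Rad F l : Submodule (ZMod 2) (K × K)) :=
    fun l hl hl0 => bound hL hl0 DD (hiso l hl)
  obtain ⟨l1, hl1, hl10⟩ : ∃ l ∈ Λ, l ≠ 0 := by
    have : Λ ≠ ⊥ := by
      intro h
      rw [h, finrank_bot] at hΛf
      omega
    obtain ⟨l, hl, h0⟩ := Submodule.exists_mem_ne_zero_of_ne_bot this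
    exact ⟨l, hl, h0⟩
  have hd4 : finrank (ZMod 2) DD ≤ 4 * k := by
    have h1 := hbd l1 hl1 hl10
    have h2 := Submodule.finrank_mono (inf_le_right : DD ⊓ Rad F l1 ≤ Rad F l1)
    rw [finrank_Rad hl10, ← hk] at h2
    omega
  obtain ⟨l2, hl2, hl20⟩ : ∃ l ∈ Λ, l ∉ Lin F l1 := by
    by_contra hcon
    push Not at hcon
    have h1 := Submodule.finrank_mono (show Λ ≤ Lin F l1 from hcon)
    rw [finrank_Lin hl10, ← hk] at h1
    omega
  have hl2' : ∀ s : F, l2 ≠ s • l1 := fun s hs => hl20 (mem_Lin.2 ⟨s, hs⟩)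
  have hl2n : l2 ≠ 0 := fun h => hl2' 0 (by rw [h, zero_smul])
  set s := cr φ l1 l2 with hs
  have hs0 : s ≠ 0 := by
    intro h0
    obtain ⟨t, ht⟩ := cr_eq_zero_two φ two_K hl10 h0
    exact hl2' t ht
  have hs1 : tr φ (s * l1) = 0 := tr_cr_self_left l1 l2
  have hs2 : tr φ (s * l2) = 0 := by
    rw [hs, cr_comm]
    exact tr_cr_self_left l2 l1
  have hΛs : Λ ≤ Per φ s := by
    intro l3 hl3
    by_contra hcon
    rw [mem_Per] at hcon
    have hl30 : l3 ≠ 0 := by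
      rintro rfl
      exact hcon (by rw [mul_zero, tr_zero])
    have e1 := hbd l1 hl1 hl10
    have e2 := hbd l2 hl2 hl2n
    have e3 := hbd l3 hl3 hl30
    -- independence
    have i12 : (DD ⊓ Rad F l1) ⊓ (DD ⊓ Rad F l2) = ⊥ := by
      rw [eq_bot_iff]
      rintro v ⟨⟨-, ⟨a, ha⟩, ⟨b, hb⟩⟩, -, ⟨a', ha'⟩, ⟨b', hb'⟩⟩
      have key : ∀ {x : K} {a a' : F}, x = a • l1 → x = a' • l2 → x = 0 := by
        intro x a a' h1 h2
        by_cases h0 : a' = 0
        · rw [h2, h0, zero_smul]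
        · exfalso
          apply hl2' (a'⁻¹ * a)
          rw [mul_smul, ← h1, h2, smul_smul, inv_mul_cancel₀ h0, one_smul]
      rw [Submodule.mem_bot]
      exact Prod.ext (key ha ha') (key hb hb')
    have i3 : ((DD ⊓ Rad F l1) ⊔ (DD ⊓ Rad F l2)) ⊓ (DD ⊓ Rad F l3) = ⊥ := by
      rw [eq_bot_iff]
      rintro v ⟨hv, -, ⟨a, ha⟩, ⟨b, hb⟩⟩
      obtain ⟨x, ⟨-, ⟨x1, hx1⟩, ⟨x2, hx2⟩⟩, y, ⟨-, ⟨y1, hy1⟩, ⟨y2, hy2⟩⟩, rfl⟩ := Submodule.mem_sup.1 hv
      have key : ∀ {z : K} {a b c : F}, z = a • l1 + b • l2 → z = c • l3 → z = 0 := by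
        intro z a b c h1 h2
        have h3 : tr φ (s * z) = 0 := by
          rw [h1, mul_add, tr_add, mul_smul_comm, mul_smul_comm, tr_smul, tr_smul, hs1, hs2]
          simp
        rw [h2, mul_smul_comm, tr_smul] at h3
        rw [h2, (mul_eq_zero.1 h3).resolve_right hcon, zero_smul]
      rw [Submodule.mem_bot]
      refine Prod.ext (key (a := x1) (b := y1) ?_ ha) (key (a := x2) (b := y2) ?_ hb)
      · rw [Prod.fst_add, hx1, hy1]
      · rw [Prod.snd_add, hx2, hy2]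
    have f1 := Submodule.finrank_sup_add_finrank_inf_eq (DD ⊓ Rad F l1) (DD ⊓ Rad F l2)
    have f2 := Submodule.finrank_sup_add_finrank_inf_eq ((DD ⊓ Rad F l1) ⊔ (DD ⊓ Rad F l2)) (DD ⊓ Rad F l3)
    rw [i12, finrank_bot] at f1
    rw [i3, finrank_bot] at f2
    have f3 := Submodule.finrank_mono (show ((DD ⊓ Rad F l1) ⊔ (DD ⊓ Rad F l2)) ⊔ (DD ⊓ Rad F l3) ≤ DD from
      sup_le (sup_le inf_le_left inf_le_left) inf_le_left)
    omega
  have hPf := finrank_Per (φ := φ) hs0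
  rw [← hk] at hPf
  have hΛe : Λ = Per φ s := Submodule.eq_of_le_of_finrank_le hΛs (by rw [hPf]; omega)
  rw [hΛe] at hΛf
  have hmem : ∀ l ∈ Per φ s, (l, (0 : K)) ∈ DD ∧ ((0 : K), l) ∈ DD := by
    intro l hl
    by_cases hl0 : l = 0
    · subst hl0
      exact ⟨zero_mem _, zero_mem _⟩
    · have h1 := hbd l (by rw [hΛe]; exact hl) hl0
      have h2 := finrank_Rad (F := F) hl0
      rw [← hk] at h2
      have h3 : DD ⊓ Rad F l = Rad F l := Submodule.eq_of_le_of_finrank_le inf_le_right (by rw [h2]; omega)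
      have h4 : Rad F l ≤ DD := by
        rw [← h3]
        exact inf_le_left
      exact ⟨h4 ⟨⟨1, by rw [one_smul]⟩, ⟨0, by rw [zero_smul]⟩⟩, h4 ⟨⟨0, by rw [zero_smul]⟩, ⟨1, by rw [one_smul]⟩⟩⟩
  have hle : (Per φ s).prod (Per φ s) ≤ DD := by
    rintro ⟨a, b⟩ ⟨ha, hb⟩
    have h1 := add_mem (hmem a ha).1 (hmem b hb).2
    rwa [Prod.mk_add_mk, add_zero, zero_add] at h1
  have hfp : finrank (ZMod 2) ((Per φ s).prod (Per φ s)) = 4 * k := by
    have h1 : Nat.card ((Per φ s).prod (Per φ s)) = Nat.card (Per φ s) * Nat.card (Per φ s) := by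
      rw [← Nat.card_prod]
      exact Nat.card_congr ⟨fun x => (⟨x.1.1, x.2.1⟩, ⟨x.1.2, x.2.2⟩), fun y => ⟨(y.1, y.2), y.1.2, y.2.2⟩,
        fun _ => rfl, fun _ => rfl⟩
    rw [card_eq_pow, card_eq_pow (V := Per φ s), ← pow_add] at h1
    have := Nat.pow_right_injective (le_refl 2) h1
    omega
  have heq := Submodule.eq_of_le_of_finrank_le hle (by rw [hfp]; exact hd4)
  refine ⟨s, hs0, fun v => ?_⟩
  rw [← heq]
  exact Iff.rfl

/-- all elements of `DD` are pure tensors -/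
theorem pure_case (DD : Submodule (ZMod 2) (K × K)) (hp : ∀ v ∈ DD, v.1 = 0 ∨ ∃ s : F, v.2 = s • v.1)
    (hl : ∀ l m : F, (l ≠ 0 ∨ m ≠ 0) → ∃ v ∈ DD, l • v.1 + m • v.2 ≠ 0) : ∃ a : K, a ≠ 0 ∧ DD ≤ Rad F a := by
  obtain ⟨x, hx, hx1⟩ := hl 1 0 (Or.inl one_ne_zero)
  rw [one_smul, zero_smul, add_zero] at hx1
  obtain ⟨s, hs⟩ := (hp x hx).resolve_left hx1
  have A : ∀ y ∈ DD, y.2 - s • y.1 ≠ 0 → (∃ ν : F, y.2 - s • y.1 = ν • x.1) ∧ ∃ κ : F, y.1 = κ • x.1 := by
    intro y hy hv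
    set v := y.2 - s • y.1 with hvdef
    have h1 : ∃ κ : F, y.1 = κ • v := by
      rcases hp y hy with h0 | ⟨t, ht⟩
      · exact ⟨0, by rw [h0, zero_smul]⟩
      · have e : v = (t - s) • y.1 := by rw [hvdef, ht, sub_smul]
        have hts : t - s ≠ 0 := by
          intro h0
          rw [h0, zero_smul] at e
          exact hv e
        exact ⟨(t - s)⁻¹, by rw [e, smul_smul, inv_mul_cancel₀ hts, one_smul]⟩
    obtain ⟨κ, hκ⟩ := h1
    have h2 : ∃ α : F, x.1 = α • v := by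
      rcases hp (x + y) (add_mem hx hy) with h0 | ⟨t, ht⟩
      · rw [Prod.fst_add] at h0
        exact ⟨-κ, by rw [neg_smul, ← hκ]; exact eq_neg_of_add_eq_zero_left h0⟩
      · rw [Prod.fst_add, Prod.snd_add, hs] at ht
        have e : v = (t - s) • (x.1 + y.1) := by
          rw [hvdef, sub_smul, ← ht, smul_add]
          abel
        have hts : t - s ≠ 0 := by
          intro h0
          rw [h0, zero_smul] at e
          exact hv e
        refine ⟨(t - s)⁻¹ - κ, ?_⟩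
        rw [sub_smul, ← hκ, e, smul_smul, inv_mul_cancel₀ hts, one_smul]
        abel
    obtain ⟨α, hα⟩ := h2
    have hα0 : α ≠ 0 := by
      rintro rfl
      exact hx1 (by rw [hα, zero_smul])
    have hv' : v = α⁻¹ • x.1 := by rw [hα, smul_smul, inv_mul_cancel₀ hα0, one_smul]
    exact ⟨⟨α⁻¹, hv'⟩, ⟨κ * α⁻¹, by rw [mul_smul, ← hv', ← hκ]⟩⟩
  obtain ⟨y, hy, hyv⟩ := hl (-s) 1 (Or.inr one_ne_zero)
  have hyv' : y.2 - s • y.1 ≠ 0 := by
    intro h
    apply hyv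
    rw [neg_smul, one_smul, ← h]
    abel
  obtain ⟨-, κ, hκ⟩ := A y hy hyv'
  refine ⟨x.1, hx1, fun z hz => ?_⟩
  by_cases h0 : z.2 - s • z.1 = 0
  · have h1 : (z + y).2 - s • (z + y).1 ≠ 0 := by
      intro h
      apply hyv'
      rw [Prod.fst_add, Prod.snd_add, smul_add] at h
      rw [sub_eq_zero] at h0
      rw [h0] at h
      rw [← h]
      abel
    obtain ⟨-, κ', hκ'⟩ := A (z + y) (add_mem hz hy) h1
    rw [Prod.fst_add] at hκ'
    have h2 : z.1 = (κ' - κ) • x.1 := by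
      rw [sub_smul, ← hκ', ← hκ]
      abel
    exact ⟨⟨κ' - κ, h2⟩, ⟨s * (κ' - κ), by rw [mul_smul, ← h2]; exact sub_eq_zero.1 h0⟩⟩
  · obtain ⟨⟨ν, hν⟩, κ', hκ'⟩ := A z hz h0
    refine ⟨⟨κ', hκ'⟩, ⟨ν + s * κ', ?_⟩⟩
    rw [add_smul, mul_smul, ← hκ', ← hν]
    abel

end two

end lin

/-! ### The group -/

section grp

variable {F K : Type u} [Field F] [Field K] [Algebra F K] {φ : K ≃ₐ[F] K} [Cub φ]

theorem comm_Q2_mem {x y : Sy φ} (hx : x ∈ Q2 φ) (hy : y ∈ Q2 φ) : ⁅x, y⁆ ∈ Z3 φ :=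
  ⟨comm_x1 x y, comm_x6 x y, by rw [comm_x5, mem_Q2.1 hx, mem_Q2.1 hy]; simp⟩

theorem comm_Q2_x3 {x y : Sy φ} (hx : x ∈ Q2 φ) (hy : y ∈ Q2 φ) :
    (⁅x, y⁆).x3 = cr φ x.x1 y.x5 - cr φ y.x1 x.x5 := by
  have h := congrArg Sy.x3 (comm_mul x y)
  have hx' : x.x6 = 0 := hx
  have hy' : y.x6 = 0 := hy
  rw [mul_x3, mul_x3, mul_x3, comm_x1, mul_x6, hx', hy'] at h
  simp only [cr_zero_left, sh_zero, smul_zero, zero_smul, add_zero] at h
  linear_combination -h

theorem mem_of_coord {E : Subgroup (Sy φ)} (hZ : Z3 φ ≤ E) {x w : Sy φ} (hx : x ∈ E) (hx6 : x.x6 = 0)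
    (hw6 : w.x6 = 0) (h1 : w.x1 = x.x1) (h5 : w.x5 = x.x5) : w ∈ E := by
  have h : x⁻¹ * w ∈ Z3 φ := by
    refine ⟨?_, ?_, ?_⟩
    · rw [mul_x1, inv_x1, h1]; ring
    · rw [mul_x6, inv_x6, hx6, hw6]; ring
    · rw [mul_x5, inv_x5, hx6, hw6, h5]; simp
  have e : w = x * (x⁻¹ * w) := by group
  rw [e]
  exact mul_mem hx (hZ h)

theorem mem_of_coord3 {Y : Subgroup (Sy φ)} (hZ : Z2 φ ≤ Y) {x w : Sy φ} (hx : x ∈ Y) (hx3 : x ∈ Z3 φ)
    (hw3 : w ∈ Z3 φ) (h3 : w.x3 = x.x3) : w ∈ Y := by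
  have h : x⁻¹ * w ∈ Z2 φ := by
    obtain ⟨a1, a2, a3⟩ := hx3
    obtain ⟨b1, b2, b3⟩ := hw3
    refine ⟨?_, ?_, ?_, ?_⟩
    · rw [mul_x1, inv_x1, a1, b1]; ring
    · rw [mul_x6, inv_x6, a2, b2]; ring
    · rw [mul_x5, inv_x5, a2, b2, a3, b3]; simp
    · rw [mul_x3, inv_x3, inv_x1, a1, a2, a3, b2, b3, h3]; simp [cr]
  have e : w = x * (x⁻¹ * w) := by group
  rw [e]
  exact mul_mem hx (hZ h)

/-- `E` not in a line: `Z2 ≤ Φ(E)` -/
theorem Z2_le_of_not_line {E P : Subgroup (Sy φ)} (hE : E ≤ Q2 φ) (hZ : Z3 φ ≤ E) (hl : ¬ Line E)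
    (hP : Com E E P) : Z2 φ ≤ P := by
  let el : F × F → Sy φ := fun w => ⟨0, 0, 0, 0, w.1, w.2⟩
  have hel : ∀ w w', el (w + w') = el w * el w' := by
    intro w w'
    ext <;> simp [el, mul_def, cr_zero_left, sh_zero, nm_zero, tr_zero]
  let W : Submodule F (F × F) :=
    Submodule.span F {w | ∃ x ∈ E, ∃ b : K, w = (tr φ (x.x1 * b), -tr φ (b * x.x5))}
  have hW : ∀ w ∈ W, ∀ s : F, el (s • w) ∈ P := by
    intro w hw
    refine Submodule.span_induction ?_ ?_ ?_ ?_ hw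
    · rintro w ⟨x, hx, b, rfl⟩ s
      have h1 := hP x hx (u3 φ (s • b)) (hZ (u3_mem _))
      rw [← commutatorElement_def] at h1
      have hx6 : x.x6 = 0 := hE hx
      have h2 : ⁅x, u3 φ (s • b)⁆ = el (s • (tr φ (x.x1 * b), -tr φ (b * x.x5))) := by
        have hm := comm_mem_Z2 (x := x) (u3_mem (φ := φ) (s • b))
        ext
        · exact hm.1
        · exact hm.2.1
        · exact hm.2.2.1
        · exact hm.2.2.2
        · rw [comm_x2' (u3_mem _)]
          simp only [u3, el, Prod.smul_mk, smul_eq_mul]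
          rw [mul_smul_comm, tr_smul]
        · rw [comm_x4' (u3_mem _)]
          simp only [u3, el, Prod.smul_mk, smul_eq_mul]
          rw [hx6, smul_mul_assoc, tr_smul]
          ring
      rw [← h2]
      exact h1
    · intro s
      rw [smul_zero]
      exact one_mem P
    · intro x y _ _ h1 h2 s
      rw [smul_add, hel]
      exact mul_mem (h1 s) (h2 s)
    · intro t x _ h1 s
      rw [smul_smul]
      exact h1 _
  have hWt : W = ⊤ := by
    by_contra hcon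
    obtain ⟨g, hg0, hg⟩ := Submodule.exists_le_ker_of_lt_top W (lt_top_iff_ne_top.2 hcon)
    apply hl
    have hgl : ∀ r t : F, g (r, t) = r * g (1, 0) + t * g (0, 1) := by
      intro r t
      have : ((r, t) : F × F) = r • (1, 0) + t • (0, 1) := by simp
      rw [this, map_add, map_smul, map_smul]
      rfl
    refine ⟨g (1, 0), -g (0, 1), ?_, fun x hx => ?_⟩
    · by_contra h
      push Not at h
      apply hg0
      have h2 : g (0, 1) = 0 := neg_eq_zero.1 h.2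
      apply LinearMap.ext
      rintro ⟨r, t⟩
      rw [hgl, h.1, h2]
      simp
    · apply tr_nondeg φ
      intro b
      have h1 : g (tr φ (x.x1 * b), -tr φ (b * x.x5)) = 0 := hg (Submodule.subset_span ⟨x, hx, b, rfl⟩)
      rw [hgl] at h1
      rw [add_mul, tr_add, smul_mul_assoc, smul_mul_assoc, tr_smul, tr_smul, mul_comm x.x5 b]
      linear_combination h1
  intro w hw
  have h1 := hW (w.x2, w.x4) (by rw [hWt]; trivial) 1
  rw [one_smul] at h1
  have : w = el (w.x2, w.x4) := by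
    ext
    exacts [hw.1, hw.2.1, hw.2.2.1, hw.2.2.2, rfl, rfl]
  rw [this]
  exact h1

theorem relIndex_mul_card' {G : Type*} [Group G] {H L : Subgroup G} (h : H ≤ L) :
    Nat.card H * H.relIndex L = Nat.card L := by
  have := Subgroup.relIndex_mul_relIndex ⊥ H L bot_le h
  rwa [Subgroup.relIndex_bot_left, Subgroup.relIndex_bot_left] at this

/-- **(A2)** -/
theorem stA2 (hp2 : StP2.{u}) (hphi : StPhi.{u}) : StA2.{u} := by
  intro F K _ _ _ _ _ φ _ _ E Γ h hZ hE hne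
  by_cases hl : Line E
  · exact Or.inl hl
  right
  have : Module (ZMod 2) K := (ZMod.algebra K 2).toModule
  have : CharP F 2 := (algebraMap F K).charP_iff (algebraMap F K).injective 2 |>.2 inferInstance
  have : Module (ZMod 2) F := (ZMod.algebra F 2).toModule
  have hfin : Finite E := inferInstance
  have hpE : IsPGroup 2 E := h.pgr.to_le h.E_le
  obtain ⟨hPE, hPc, hPp, -, -, -⟩ := hphi E 2 Nat.prime_two hfin hpE
  have hZ2 : Z2 φ ≤ Phi E := Z2_le_of_not_line hE hZ hl hPc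
  have h20 : ∀ x : K, x + x = 0 := fun x => CharTwo.add_self_eq_zero x
  -- the two submodules
  let DD : Submodule (ZMod 2) (K × K) := AddSubgroup.toZModSubmodule 2
    { carrier := {v | ∃ x ∈ E, (x.x1, x.x5) = v}
      zero_mem' := ⟨1, one_mem _, rfl⟩
      add_mem' := by
        rintro v w ⟨x, hx, rfl⟩ ⟨y, hy, rfl⟩
        refine ⟨x * y, mul_mem hx hy, ?_⟩
        have hy6 : y.x6 = 0 := hE hy
        rw [mul_x1, mul_x5, hy6, zero_smul, add_zero]
        rfl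
      neg_mem' := by
        rintro v ⟨x, hx, rfl⟩
        refine ⟨x⁻¹, inv_mem hx, ?_⟩
        have hx6 : x.x6 = 0 := hE hx
        rw [inv_x1, inv_x5, hx6, zero_smul, add_zero]
        rfl }
  have hDD : ∀ v, v ∈ DD ↔ ∃ x ∈ E, (x.x1, x.x5) = v := fun v => Iff.rfl
  let BB : Submodule (ZMod 2) K := AddSubgroup.toZModSubmodule 2
    { carrier := {b | ∃ x ∈ Z3 φ ⊓ Phi E, x.x3 = b}
      zero_mem' := ⟨1, one_mem _, rfl⟩
      add_mem' := by
        rintro v w ⟨x, hx, rfl⟩ ⟨y, hy, rfl⟩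
        refine ⟨x * y, mul_mem hx hy, ?_⟩
        rw [mul_x3, hx.1.1, hy.1.2.1]
        simp [cr_zero_left]
      neg_mem' := by
        rintro v ⟨x, hx, rfl⟩
        refine ⟨x⁻¹, inv_mem hx, ?_⟩
        rw [inv_x3, hx.1.1, hx.1.2.1]
        simp [cr_zero_left] }
  have hBB : ∀ b, b ∈ BB ↔ ∃ x ∈ Z3 φ ⊓ Phi E, x.x3 = b := fun b => Iff.rfl
  have hEiff : ∀ x : Sy φ, x ∈ E ↔ x.x6 = 0 ∧ (x.x1, x.x5) ∈ DD := by
    intro x
    constructor
    · intro hx
      exact ⟨hE hx, x, hx, rfl⟩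
    · rintro ⟨h6, y, hy, he⟩
      rw [Prod.mk.injEq] at he
      exact mem_of_coord hZ hy (hE hy) h6 he.1.symm he.2.symm
  -- orders
  have cE : Nat.card E = Nat.card DD * (Nat.card K * Nat.card F ^ 2) := by
    rw [Nat.card_congr (β := DD × (K × F × F)) ⟨fun x => (⟨(x.1.x1, x.1.x5), ((hEiff x.1).1 x.2).2⟩, (x.1.x3, x.1.x2, x.1.x4)),
      fun w => ⟨⟨w.1.1.1, 0, w.1.1.2, w.2.1, w.2.2.1, w.2.2.2⟩, (hEiff _).2 ⟨rfl, w.1.2⟩⟩, fun x => ?_, fun w => rfl⟩]
    · simp only [Nat.card_prod]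
      ring
    · apply Subtype.ext
      ext
      exacts [rfl, (((hEiff x.1).1 x.2).1).symm, rfl, rfl, rfl, rfl]
  have hY2 : Z2 φ ≤ Z3 φ ⊓ Phi E := le_inf Z2_le_Z3 hZ2
  have cY : Nat.card (Z3 φ ⊓ Phi E : Subgroup (Sy φ)) = Nat.card BB * Nat.card F ^ 2 := by
    rw [Nat.card_congr (β := BB × (F × F)) ⟨fun x => (⟨x.1.x3, x.1, x.2, rfl⟩, (x.1.x2, x.1.x4)),
      fun w => ⟨⟨0, 0, 0, w.1.1, w.2.1, w.2.2⟩, by
        obtain ⟨⟨b, x, hx, hb⟩, r, t⟩ := w
        exact mem_of_coord3 hY2 hx hx.1 ⟨rfl, rfl, rfl⟩ hb.symm⟩, fun x => ?_, fun w => rfl⟩]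
    · simp only [Nat.card_prod]
      ring
    · obtain ⟨x, hx⟩ := x
      apply Subtype.ext
      ext
      exacts [hx.1.1.symm, hx.1.2.1.symm, hx.1.2.2.symm, rfl, rfl, rfl]
  have r1 := relIndex_mul_card' hE
  have r2 := relIndex_mul_card' (inf_le_left : Z3 φ ⊓ Phi E ≤ Z3 φ)
  rw [cE, card_Q2] at r1
  rw [cY, card_Z3] at r2
  have hcom : Com (Q2 φ) E (Z3 φ) := by
    intro a ha m hm
    rw [← commutatorElement_def]
    exact comm_Q2_mem ha (hE hm)
  have hnorm : Q2 φ ≤ normalizerIn ⊤ E := by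
    intro x hx
    refine Subgroup.mem_inf.2 ⟨trivial, ?_⟩
    have key : ∀ x ∈ Q2 φ, ∀ y ∈ E, x * y * x⁻¹ ∈ E := by
      intro x hx y hy
      have := mul_mem (hZ (hcom x hx y hy)) hy
      simpa using this
    rw [Subgroup.mem_normalizer_iff]
    intro y
    refine ⟨fun hy => key x hx y hy, fun hy => ?_⟩
    have := key x⁻¹ (inv_mem hx) _ hy
    simpa [mul_assoc] using this
  have hQE : ¬ Q2 φ ≤ E := fun hq => hne (le_antisymm hE hq)
  have hineq := hp2 h (Q2 φ) (Q2 φ) (Z3 φ) (Z3 φ) (Z3 φ ⊓ Phi E) (Z3 φ ⊓ Phi E) hnorm hnorm hQE hZ hZ hcom hcom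
    inf_le_right inf_le_right
  set r := E.relIndex (Q2 φ) with hr
  set t := (Z3 φ ⊓ Phi E).relIndex (Z3 φ) with ht
  have hrt : r ≤ t := by
    by_contra hcon
    have : t * t < r ^ 2 := by nlinarith
    omega
  have hK0 : 0 < Nat.card K := Nat.card_pos
  have hF0 : 0 < Nat.card F := Nat.card_pos
  have e1 : Nat.card DD * r = Nat.card K ^ 2 := by
    have : (Nat.card K * Nat.card F ^ 2) * (Nat.card DD * r) = (Nat.card K * Nat.card F ^ 2) * Nat.card K ^ 2 := by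
      linear_combination r1
    exact Nat.eq_of_mul_eq_mul_left (by positivity) this
  have e2 : Nat.card BB * t = Nat.card K := by
    have : Nat.card F ^ 2 * (Nat.card BB * t) = Nat.card F ^ 2 * Nat.card K := by
      linear_combination r2
    exact Nat.eq_of_mul_eq_mul_left (by positivity) this
  have e3 : Nat.card K * Nat.card BB ≤ Nat.card DD := by
    have h1 : Nat.card K * (Nat.card K * Nat.card BB) ≤ Nat.card K * Nat.card DD := by
      calc Nat.card K * (Nat.card K * Nat.card BB) = Nat.card DD * r * Nat.card BB := by rw [e1]; ring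
        _ ≤ Nat.card DD * t * Nat.card BB := Nat.mul_le_mul_right _ (Nat.mul_le_mul_left _ hrt)
        _ = Nat.card DD * (Nat.card BB * t) := by ring
        _ = Nat.card K * Nat.card DD := by rw [e2]; ring
    exact Nat.le_of_mul_le_mul_left h1 hK0
  have hcard : Module.finrank (ZMod 2) K + Module.finrank (ZMod 2) BB ≤ Module.finrank (ZMod 2) DD := by
    rw [card_eq_pow (V := K), card_eq_pow (V := BB), card_eq_pow (V := DD), ← pow_add] at e3
    exact (Nat.pow_le_pow_iff_right (by norm_num)).1 e3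
  have hDt : DD ≠ ⊤ := by
    intro h0
    apply hne
    refine le_antisymm hE fun x hx => (hEiff x).2 ⟨hx, ?_⟩
    rw [h0]
    trivial
  have hB : ∀ v ∈ DD, ∀ w ∈ DD, cr φ v.1 w.2 + cr φ w.1 v.2 ∈ BB := by
    rintro v ⟨x, hx, rfl⟩ w ⟨y, hy, rfl⟩
    refine ⟨⁅x, y⁆, ⟨comm_Q2_mem (hE hx) (hE hy), hPc x hx y hy⟩, ?_⟩
    rw [comm_Q2_x3 (hE hx) (hE hy)]
    exact CharTwo.sub_eq_add _ _
  have hS : ∀ v ∈ DD, cr φ v.1 v.2 ∈ BB := by
    rintro v ⟨x, hx, rfl⟩
    have hx6 : x.x6 = 0 := hE hx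
    have h1 := hPp x hx
    rw [sq] at h1
    refine ⟨x * x, ⟨⟨?_, ?_, ?_⟩, h1⟩, ?_⟩
    · rw [mul_x1, h20]
    · rw [mul_x6, hx6, add_zero]
    · rw [mul_x5, hx6, zero_smul, add_zero, h20]
    · rw [mul_x3, hx6, zero_smul, add_zero, h20, zero_add]
  have hind : ∃ v ∈ DD, v.1 ≠ 0 ∧ ∀ s : F, v.2 ≠ s • v.1 := by
    by_contra hcon
    push Not at hcon
    obtain ⟨a, ha, hle⟩ := pure_case (F := F) DD (fun v hv => by
      by_cases h0 : v.1 = 0
      · exact Or.inl h0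
      · exact Or.inr (hcon v hv h0)) (fun l m hlm => by
      by_contra hcon2
      push Not at hcon2
      exact hl ⟨l, m, hlm, fun x hx => hcon2 _ ⟨x, hx, rfl⟩⟩)
    have h1 := Submodule.finrank_mono hle
    rw [finrank_Rad ha] at h1
    have h2 := finrank_K φ
    have h3 : 1 ≤ Module.finrank (ZMod 2) F := Module.finrank_pos
    omega
  obtain ⟨s, hs0, hs⟩ := lin_main DD BB hB hS hcard hDt hind
  refine ⟨s, hs0, ?_⟩
  ext x
  rw [hEiff, mem_Cs, hs]

end grp

end Cfsg.Agent.H744.TE
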